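import Groth.Agent.Lib.CDivInt.Factorial
import Groth.Agent.Lib.CDivInt.Basic
import Groth.Agent.Lib.Ideal.EffCartier
import Groth.Agent.Lib.ModelFibre.StalkIdeal

/-!
# Stalks of ideal sheaves: pullback, generizations, local schemes
-/

set_option autoImplicit false
universe u
open CategoryTheory CategoryTheory.Limits AlgebraicGeometry TopologicalSpace

namespace Groth.Agent.Lib.CartierDescent

open Groth.Agent.Lib.Ideal.Prime Groth.Agent.Lib.Ideal.EffCartier Groth.Agent.Lib.CDivInt.Factorial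
  Groth.Agent.Lib.AssPt.Basic

variable {X Y : Scheme.{u}}

theorem stalkIdeal_comap (f : X ⟶ Y) (I : Y.IdealSheafData) (x : X) :
    stalkIdeal (I.comap f) x = (stalkIdeal I (f x)).map (f.stalkMap x).hom := by
  obtain ⟨U, V, hxU, hxV, -, -, hle⟩ := Ideal.Comap.exists_affine_le_preimage f x
    (show x ∈ (⊤ : X.Opens) from trivial) (show f x ∈ (⊤ : Y.Opens) from trivial)
  rw [stalkIdeal_eq _ V hxV, Ideal.Comap.ideal_comap f I U V hle, stalkIdeal_eq I U hxU,
    Ideal.map_map, Ideal.map_map]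
  congr 1
  refine RingHom.ext fun r => ?_
  exact (X.presheaf.germ_res_apply _ _ _ _).trans (Scheme.Hom.germ_stalkMap_apply f U.1 x hxU r).symm

theorem stalkIdeal_eq_span {J : X.IdealSheafData} (hJ : BlowUp.IsEffCartierIdeal J) (x : X) :
    ∃ g ∈ nonZeroDivisors (X.presheaf.stalk x), stalkIdeal J x = Ideal.span {g} := by
  obtain ⟨U, hxU, g, hg, he⟩ := hJ x
  refine ⟨_, germ_mem_nonZeroDivisors U.2 hg x hxU, ?_⟩
  rw [stalkIdeal_eq J U hxU, he, Ideal.map_span, Set.image_singleton]

/-- The local ring at a generization is a localization of the local ring. -/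
theorem isLocalization_stalkSpecializes [IsLocallyNoetherian X] {z x : X} (h : z ⤳ x) :
    @IsLocalization.AtPrime (X.presheaf.stalk x) _ (X.presheaf.stalk z) _
      (X.presheaf.stalkSpecializes h).hom.toAlgebra (primeOf h) inferInstance := by
  obtain ⟨U, hU, hxU, -⟩ := exists_isAffineOpen_mem_and_subset (x := x) (U := (⊤ : X.Opens)) trivial
  have hzU : z ∈ U := h.mem_open U.2 hxU
  letI := X.presheaf.algebra_section_stalk ⟨x, hxU⟩
  letI := X.presheaf.algebra_section_stalk ⟨z, hzU⟩
  haveI := hU.isLocalization_stalk ⟨x, hxU⟩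
  haveI := hU.isLocalization_stalk ⟨z, hzU⟩
  letI : Algebra (X.presheaf.stalk x) (X.presheaf.stalk z) :=
    (X.presheaf.stalkSpecializes h).hom.toAlgebra
  haveI : IsScalarTower Γ(X, U) (X.presheaf.stalk x) (X.presheaf.stalk z) :=
    IsScalarTower.of_algebraMap_eq fun r =>
      (TopCat.Presheaf.germ_stalkSpecializes_apply X.presheaf hxU h r).symm
  have hle : (hU.primeIdealOf ⟨x, hxU⟩).asIdeal.primeCompl ≤
      (hU.primeIdealOf ⟨z, hzU⟩).asIdeal.primeCompl := fun r hr hrz =>
    hr ((specializes_iff_primeIdealOf hU hxU hzU).mp h hrz)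
  haveI := IsLocalization.isLocalization_of_submonoid_le (X.presheaf.stalk x) (X.presheaf.stalk z)
    (hU.primeIdealOf ⟨x, hxU⟩).asIdeal.primeCompl (hU.primeIdealOf ⟨z, hzU⟩).asIdeal.primeCompl hle
  refine IsLocalization.of_le (R := X.presheaf.stalk x) (S := X.presheaf.stalk z)
    ((hU.primeIdealOf ⟨z, hzU⟩).asIdeal.primeCompl.map
      (algebraMap Γ(X, U) (X.presheaf.stalk x))) (primeOf h).primeCompl ?_ fun r hr => ?_
  · rintro _ ⟨r, hr, rfl⟩ hm
    apply hr
    rw [← primeOf_comap hU h hzU hxU]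
    exact hm
  · exact not_not.mp hr

theorem notMem_primeOf {z x : X} [IsLocallyNoetherian X] (h : z ⤳ x) {s : X.presheaf.stalk x}
    (hs : IsUnit (X.presheaf.stalkSpecializes h s)) : s ∉ primeOf h := fun hm => hm hs

theorem depth_eq_of_ringEquiv {R S : Type u} [CommRing R] [IsLocalRing R] [CommRing S] [IsLocalRing S]
    (e : R ≃+* S) : LocCoh.depth R R = LocCoh.depth S S := by
  let : Algebra R S := e.toRingHom.toAlgebra
  rw [← Groth.Agent.Lib.Depth.Basic.depth_eq_of_surjective (R := R) (S := S) (M := S) e.surjective]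
  exact Groth.Agent.Lib.Depth.Basic.depth_congr
    (LinearEquiv.ofBijective (Algebra.linearMap R S) e.bijective)

theorem depth_primeOf [IsLocallyNoetherian X] {z x : X} (h : z ⤳ x) :
    LocCoh.depth (Localization.AtPrime (primeOf h)) (Localization.AtPrime (primeOf h)) =
      LocCoh.depth (X.presheaf.stalk z) (X.presheaf.stalk z) := by
  letI : Algebra (X.presheaf.stalk x) (X.presheaf.stalk z) :=
    (X.presheaf.stalkSpecializes h).hom.toAlgebra
  haveI := isLocalization_stalkSpecializes h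
  exact depth_eq_of_ringEquiv
    (IsLocalization.algEquiv (primeOf h).primeCompl (Localization.AtPrime (primeOf h))
      (X.presheaf.stalk z)).toRingEquiv

theorem stalkSpecializes_comp_apply {w z x : X} (h : w ⤳ z) (h' : z ⤳ x) (r : X.presheaf.stalk x) :
    X.presheaf.stalkSpecializes h (X.presheaf.stalkSpecializes h' r) =
      X.presheaf.stalkSpecializes (h.trans h') r := by
  rw [← CommRingCat.comp_apply, TopCat.Presheaf.stalkSpecializes_comp]

theorem specializes_of_primeOf_le [IsLocallyNoetherian X] {z w x : X} (h : z ⤳ x) (h' : w ⤳ x)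
    (hle : primeOf h' ≤ primeOf h) : w ⤳ z := by
  obtain ⟨U, hU, hxU, -⟩ := exists_isAffineOpen_mem_and_subset (x := x) (U := (⊤ : X.Opens)) trivial
  refine (specializes_iff_primeIdealOf hU (h.mem_open U.2 hxU) (h'.mem_open U.2 hxU)).mpr ?_
  rw [← primeOf_comap hU h (h.mem_open U.2 hxU) hxU, ← primeOf_comap hU h' (h'.mem_open U.2 hxU) hxU]
  exact Ideal.comap_mono hle

theorem comap_primeOf [IsLocallyNoetherian X] [IsLocallyNoetherian Y] (f : X ⟶ Y) {x' x : X}
    (h : x' ⤳ x) :
    (primeOf h).comap (f.stalkMap x).hom = primeOf (h.map f.continuous) := by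
  ext r
  show (¬ IsUnit (X.presheaf.stalkSpecializes h (f.stalkMap x r))) ↔
    ¬ IsUnit (Y.presheaf.stalkSpecializes (h.map f.continuous) r)
  rw [← Scheme.Hom.stalkSpecializes_stalkMap_apply f x' x h r]
  exact not_congr ⟨fun hu => isUnit_of_map_unit (f.stalkMap x').hom _ hu, fun hu => hu.map _⟩

/-- The ideal of an ideal sheaf on an affine scheme. -/
noncomputable def topIdeal {R : CommRingCat.{u}} (I : (Spec R).IdealSheafData) : Ideal R :=
  (I.ideal ⟨⊤, isAffineOpen_top _⟩).map (Scheme.ΓSpecIso R).hom.hom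

theorem topIdeal_comap {R S : CommRingCat.{u}} (φ : R ⟶ S) (I : (Spec R).IdealSheafData) :
    topIdeal (I.comap (Spec.map φ)) = (topIdeal I).map φ.hom := by
  rw [topIdeal, topIdeal, Ideal.Comap.ideal_comap_top, Ideal.map_map, Ideal.map_map,
    ← CommRingCat.hom_comp, ← CommRingCat.hom_comp, Scheme.ΓSpecIso_naturality]

theorem topIdeal_comap_fromSpecStalk (J : X.IdealSheafData) (x : X) :
    topIdeal (J.comap (X.fromSpecStalk x)) = stalkIdeal J x := by
  obtain ⟨U, hU, hxU, -⟩ := exists_isAffineOpen_mem_and_subset (x := x) (U := (⊤ : X.Opens)) trivial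
  have hle : (⊤ : (Spec (X.presheaf.stalk x)).Opens) ≤ X.fromSpecStalk x ⁻¹ᵁ U := by
    intro p _
    have : X.fromSpecStalk x p ⤳ x := by
      have h := Scheme.range_fromSpecStalk (X := X) (x := x)
      exact (h.le ⟨p, rfl⟩ :)
    exact this.mem_open U.2 hxU
  rw [topIdeal, stalkIdeal_eq J ⟨U, hU⟩ hxU,
    Ideal.Comap.ideal_comap _ J ⟨U, hU⟩ ⟨⊤, isAffineOpen_top _⟩ hle, Ideal.map_map,
    ← CommRingCat.hom_comp]
  congr 2
  rw [Scheme.Hom.appLE, Scheme.fromSpecStalk_app hxU]
  simp only [Category.assoc, ← Functor.map_comp_assoc]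
  rw [← cancel_mono (Scheme.ΓSpecIso (X.presheaf.stalk x)).inv]
  simp only [Category.assoc, Iso.hom_inv_id, Category.comp_id]
  congr 1

theorem exists_topIdeal_eq_span {R : CommRingCat.{u}} [IsLocalRing R] {I : (Spec R).IdealSheafData}
    (hI : BlowUp.IsEffCartierIdeal I) :
    ∃ a ∈ nonZeroDivisors R, topIdeal I = Ideal.span {a} := by
  obtain ⟨U, hcU, g, hg, he⟩ := hI (IsLocalRing.closedPoint R)
  have hU : U = ⟨⊤, isAffineOpen_top _⟩ := Subtype.ext (top_le_iff.mp fun p _ =>
    (IsLocalRing.specializes_closedPoint p).mem_open U.1.2 hcU)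
  subst hU
  refine ⟨(Scheme.ΓSpecIso R).hom g, ?_, ?_⟩
  · exact mem_nonZeroDivisors_of_flat
      (RingHom.Flat.of_bijective (ConcreteCategory.bijective_of_isIso (Scheme.ΓSpecIso R).hom)) hg
  · rw [topIdeal, he, Ideal.map_span, Set.image_singleton]

theorem isEffCartierIdeal_comap_fromSpecStalk {I : X.IdealSheafData}
    (hI : BlowUp.IsEffCartierIdeal I) (x : X) :
    BlowUp.IsEffCartierIdeal (I.comap (X.fromSpecStalk x)) := by
  intro p
  obtain ⟨g, hg, he⟩ := stalkIdeal_eq_span hI x
  refine ⟨⟨⊤, isAffineOpen_top _⟩, trivial, (Scheme.ΓSpecIso _).inv g, ?_, ?_⟩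
  · exact mem_nonZeroDivisors_of_flat (RingHom.Flat.of_bijective
      (ConcreteCategory.bijective_of_isIso (Scheme.ΓSpecIso (X.presheaf.stalk x)).inv)) hg
  · have := congrArg (Ideal.map (Scheme.ΓSpecIso (X.presheaf.stalk x)).inv.hom)
      ((topIdeal_comap_fromSpecStalk I x).trans he)
    rwa [topIdeal, Ideal.map_map, ← CommRingCat.hom_comp, Iso.hom_inv_id, CommRingCat.hom_id,
      Ideal.map_id, Ideal.map_span, Set.image_singleton] at this

end Groth.Agent.Lib.CartierDescent
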