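import Groth.Agent.Lib.CDivInt.Basic
import Mathlib.RingTheory.Regular.Flat
import Mathlib.RingTheory.RingHom.Flat
import Mathlib.RingTheory.Flat.FaithfullyFlat.Algebra
import Mathlib.RingTheory.Ideal.AssociatedPrime.Finiteness

/-!
# Descent of a principal ideal along a flat local homomorphism
-/

set_option autoImplicit false
universe u
open IsLocalRing TensorProduct

namespace Groth.Agent.Lib.CartierDescent

variable {A B : Type u} [CommRing A] [CommRing B] [Algebra A B]

theorem mem_map_ker_of_tmul_eq_zero [Module.Flat A B] {M : Type u} [AddCommGroup M] [Module A M]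
    (f : A →ₗ[A] M) {b : B} (h : b ⊗ₜ[A] f 1 = 0) :
    b ∈ Ideal.map (algebraMap A B) (LinearMap.ker f) := by
  have hex := Module.Flat.lTensor_exact (R := A) (M := B) (LinearMap.exact_subtype_ker_map f)
  obtain ⟨w, hw⟩ := (hex (b ⊗ₜ[A] (1 : A))).mp h
  have key : ∀ w : B ⊗[A] (LinearMap.ker f), TensorProduct.rid A B
      ((LinearMap.ker f).subtype.lTensor B w) ∈ Ideal.map (algebraMap A B) (LinearMap.ker f) := by
    intro w
    induction w using TensorProduct.induction_on with
    | zero => simp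
    | tmul c k =>
      rw [LinearMap.lTensor_tmul, TensorProduct.rid_tmul, Submodule.subtype_apply, Algebra.smul_def]
      exact Ideal.mul_mem_right _ _ (Ideal.mem_map_of_mem _ k.2)
    | add v w h1 h2 => rw [map_add, map_add]; exact Ideal.add_mem _ h1 h2
  simpa [hw] using key w

theorem tmul_mk_one_eq_zero {I : Ideal A} {b : B} (h : b ∈ I.map (algebraMap A B)) :
    b ⊗ₜ[A] (1 : A ⧸ I) = 0 := by
  induction h using Submodule.span_induction with
  | mem x hx =>
    obtain ⟨i, hi, rfl⟩ := hx
    rw [Algebra.algebraMap_eq_smul_one, smul_tmul, Algebra.smul_def, mul_one,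
      Ideal.Quotient.algebraMap_eq, Ideal.Quotient.eq_zero_iff_mem.mpr hi, tmul_zero]
  | zero => rw [zero_tmul]
  | add x y _ _ hx hy => rw [add_tmul, hx, hy, add_zero]
  | smul c x _ hx =>
    have := congrArg (TensorProduct.map (LinearMap.mulLeft A c) LinearMap.id) hx
    simpa using this

/-- Flat extensions commute with finite intersections. -/
theorem map_inf_of_flat [Module.Flat A B] (I J : Ideal A) :
    (I ⊓ J).map (algebraMap A B) = I.map (algebraMap A B) ⊓ J.map (algebraMap A B) := by
  refine le_antisymm (le_inf (Ideal.map_mono inf_le_left) (Ideal.map_mono inf_le_right)) fun b hb => ?_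
  let f : A →ₗ[A] (A ⧸ I) × (A ⧸ J) :=
    LinearMap.prod (Submodule.mkQ I) (Submodule.mkQ J)
  have hker : (LinearMap.ker f : Ideal A) = I ⊓ J := by
    rw [LinearMap.ker_prod, Submodule.ker_mkQ, Submodule.ker_mkQ]
  rw [← hker]
  refine mem_map_ker_of_tmul_eq_zero f ?_
  apply (TensorProduct.prodRight A A B (A ⧸ I) (A ⧸ J)).injective
  rw [map_zero]
  exact Prod.ext (tmul_mk_one_eq_zero hb.1) (tmul_mk_one_eq_zero hb.2)

theorem mem_map_finset_inf [Module.Flat A B] {ι : Type*} (s : Finset ι) (K : ι → Ideal A) {b : B}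
    (h : ∀ i ∈ s, b ∈ (K i).map (algebraMap A B)) : b ∈ (s.inf K).map (algebraMap A B) := by
  classical
  induction s using Finset.induction_on with
  | empty => rw [Finset.inf_empty, Ideal.map_top]; trivial
  | insert a s ha ih =>
    rw [Finset.inf_insert, map_inf_of_flat]
    exact ⟨h a (Finset.mem_insert_self a s), ih fun i hi => h i (Finset.mem_insert_of_mem hi)⟩

/-- Colon of a principal ideal by an element commutes with flat extensions. -/
theorem mem_map_colon [Module.Flat A B] {a c : A} {b : B}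
    (h : b * algebraMap A B c ∈ Ideal.span {algebraMap A B a}) :
    b ∈ ((Ideal.span {a}).colon {c}).map (algebraMap A B) := by
  let f : A →ₗ[A] A ⧸ Ideal.span {a} := (Submodule.mkQ (Ideal.span {a})).comp (LinearMap.mulRight A c)
  have hker : (LinearMap.ker f : Ideal A) = (Ideal.span {a}).colon {c} := by
    ext r
    show Submodule.Quotient.mk (r * c) = 0 ↔ _
    rw [Submodule.Quotient.mk_eq_zero, Submodule.mem_colon_singleton, smul_eq_mul]
  rw [← hker]
  refine mem_map_ker_of_tmul_eq_zero f ?_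
  have h1 : b * algebraMap A B c ∈ (Ideal.span {a}).map (algebraMap A B) := by
    rwa [Ideal.map_span, Set.image_singleton]
  have h2 := tmul_mk_one_eq_zero h1
  rw [mul_comm, ← Algebra.smul_def, smul_tmul] at h2
  have hf : f 1 = c • (1 : A ⧸ Ideal.span {a}) := by
    show Ideal.Quotient.mk _ (1 * c) = _
    rw [one_mul, Algebra.smul_def, mul_one]
    rfl
  rw [hf]
  exact h2

variable [IsNoetherianRing A] [IsNoetherianRing B] [IsLocalRing A] [IsLocalRing B]

omit [IsLocalRing A] [IsLocalRing B] in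
/-- An associated prime of `B/gB` lies over a prime of depth at most one. -/
theorem depth_comap_le_one [Module.Flat A B] {g : B} (hg : g ∈ nonZeroDivisors B) {q : Ideal B}
    (hq : q ∈ associatedPrimes B (B ⧸ Ideal.span {g})) [q.IsPrime] :
    LocCoh.depth (Localization.AtPrime (q.comap (algebraMap A B)))
      (Localization.AtPrime (q.comap (algebraMap A B))) ≤ 1 := by
  obtain ⟨-, x, hx⟩ := isAssociatedPrime_iff.mp hq
  obtain ⟨b, rfl⟩ := Ideal.Quotient.mk_surjective x
  have hcol : ∀ r, r ∈ q ↔ r * b ∈ Ideal.span {g} := fun r => by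
    rw [hx, Submodule.mem_colon_singleton, Submodule.mem_bot, Algebra.smul_def,
      Ideal.Quotient.algebraMap_eq, ← map_mul, Ideal.Quotient.eq_zero_iff_mem]
  let Bq := Localization.AtPrime q
  let gq : Bq := algebraMap B Bq g
  have hbm : gq ∈ maximalIdeal Bq := fun hu =>
    (IsLocalization.AtPrime.isUnit_to_map_iff Bq q g).mp hu
      ((hcol g).mpr (Ideal.mem_span_singleton.mpr (dvd_mul_right g b)))
  have hgq : gq ∈ nonZeroDivisors Bq :=
    IsLocalization.map_nonZeroDivisors_le q.primeCompl Bq ⟨g, hg, rfl⟩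
  have hd : LocCoh.depth Bq Bq = 1 := by
    refine CDivInt.exists_depth_one_not_reg.depth_eq_one_of_radical_colon (b := gq) (a := algebraMap B Bq b)
      (fun u v huv => (mul_cancel_left_mem_nonZeroDivisors hgq).mp huv) hbm (le_antisymm ?_ ?_)
    · rw [(maximalIdeal.isMaximal Bq).isPrime.radical_le_iff]
      intro r hr hu
      rw [Submodule.mem_colon_singleton, smul_eq_mul] at hr
      have h1 : algebraMap B Bq b ∈ (Ideal.span {g}).map (algebraMap B Bq) := by
        rw [Ideal.map_span, Set.image_singleton]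
        exact (Ideal.unit_mul_mem_iff_mem _ hu).mp hr
      rw [IsLocalization.algebraMap_mem_map_algebraMap_iff q.primeCompl] at h1
      obtain ⟨m, hm, hmb⟩ := h1
      exact hm ((hcol m).mpr hmb)
    · refine le_trans ?_ Ideal.le_radical
      rw [← IsLocalization.AtPrime.map_eq_maximalIdeal q Bq, Ideal.map_le_iff_le_comap]
      intro r hr
      obtain ⟨d, hd⟩ := Ideal.mem_span_singleton'.mp ((hcol r).mp hr)
      rw [Ideal.mem_comap, Submodule.mem_colon_singleton, smul_eq_mul]
      exact Ideal.mem_span_singleton'.mpr ⟨algebraMap B Bq d, by rw [← map_mul, ← map_mul, hd]⟩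
  let Ap := Localization.AtPrime (q.comap (algebraMap A B))
  let φ : Ap →+* Bq := Localization.localRingHom _ q (algebraMap A B) rfl
  have hφ : φ.Flat := RingHom.Flat.localRingHom (RingHom.flat_algebraMap_iff.mpr ‹_›) q _ rfl
  letI : Algebra Ap Bq := φ.toAlgebra
  haveI : Module.Flat Ap Bq := hφ
  haveI : IsLocalHom φ := Localization.isLocalHom_localRingHom _ q _ rfl
  by_contra hlt
  have h2 : ((2 : ℕ) : ℕ∞) ≤ LocCoh.depth Ap Ap := by
    have := not_le.mp hlt
    rw [show ((2 : ℕ) : ℕ∞) = 1 + 1 from rfl]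
    exact (ENat.add_one_le_iff ENat.one_ne_top).mpr this
  obtain ⟨rs, hl, hmem, hreg⟩ := (Groth.Agent.Lib.Depth.Basic.le_depth_iff 2).mp h2
  have hreg' := hreg.toIsWeaklyRegular.of_flat (S := Bq)
  have h3 : ((2 : ℕ) : ℕ∞) ≤ LocCoh.depth Bq Bq := by
    rw [← hl, ← List.length_map (algebraMap Ap Bq)]
    refine Groth.Agent.Lib.Depth.Basic.length_le_idealDepth hreg' fun r hr => ?_
    obtain ⟨r', hr', rfl⟩ := List.mem_map.mp hr
    exact fun hu => hmem r' hr' ((isUnit_map_iff φ r').mp hu)
  rw [hd] at h3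
  exact absurd h3 (by norm_num)

/-- **Descent of a principal ideal.** -/
theorem exists_generator [Module.Flat A B] [IsLocalHom (algebraMap A B)] {g : B}
    (hg : g ∈ nonZeroDivisors B)
    (hyp : ∀ (p : Ideal A) [p.IsPrime],
      LocCoh.depth (Localization.AtPrime p) (Localization.AtPrime p) ≤ 1 →
      ∃ a : A, ∀ q : Ideal B, q.IsPrime → q.comap (algebraMap A B) ≤ p →
        (∃ s ∉ q, s * g ∈ Ideal.span {algebraMap A B a}) ∧
        (∃ t ∉ q, t * algebraMap A B a ∈ Ideal.span {g})) :
    ∃ a ∈ nonZeroDivisors A, Ideal.span {algebraMap A B a} = Ideal.span {g} := by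
  classical
  haveI : Module.FaithfullyFlat A B := Module.FaithfullyFlat.of_flat_of_isLocalHom
  let φ := algebraMap A B
  have hfin := associatedPrimes.finite B (B ⧸ Ideal.span {g})
  have hmem : ∀ b : B, (∀ q ∈ hfin.toFinset, ∃ s ∉ q, s * b ∈ Ideal.span {g}) → b ∈ Ideal.span {g} := by
    intro b hb
    by_contra hb'
    obtain ⟨q, hq, hle⟩ := exists_le_isAssociatedPrime_of_isNoetherianRing B
      (Ideal.Quotient.mk (Ideal.span {g}) b) (fun h => hb' (Ideal.Quotient.eq_zero_iff_mem.mp h))
    obtain ⟨s, hs, hsb⟩ := hb q (hfin.mem_toFinset.mpr hq)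
    refine hs (hle ?_)
    rw [Submodule.mem_colon_singleton, Submodule.mem_bot, Algebra.smul_def,
      Ideal.Quotient.algebraMap_eq, ← map_mul, Ideal.Quotient.eq_zero_iff_mem]
    exact hsb
  choose a ha using fun q : hfin.toFinset =>
    haveI : q.1.IsPrime := IsAssociatedPrime.isPrime (hfin.mem_toFinset.mp q.2)
    hyp (q.1.comap φ) (depth_comap_le_one hg (hfin.mem_toFinset.mp q.2))
  let K : hfin.toFinset → Ideal A := fun q =>
    haveI : q.1.IsPrime := IsAssociatedPrime.isPrime (hfin.mem_toFinset.mp q.2)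
    { carrier := {c | ∃ u ∉ q.1.comap φ, u * c ∈ Ideal.span {a q}}
      zero_mem' := ⟨1, fun h => (Ideal.IsPrime.comap φ (K := q.1)).ne_top
        ((Ideal.eq_top_iff_one _).mpr h), by rw [mul_zero]; exact Ideal.zero_mem _⟩
      add_mem' := fun {c d} ⟨u, hu, hc⟩ ⟨v, hv, hd⟩ => ⟨u * v,
        fun h => ((Ideal.IsPrime.comap φ (K := q.1)).mem_or_mem h).elim hu hv, by
          rw [mul_add]
          refine Ideal.add_mem _ ?_ ?_
          · rw [mul_comm u v, mul_assoc]; exact Ideal.mul_mem_left _ v hc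
          · rw [mul_assoc]; exact Ideal.mul_mem_left _ u hd⟩
      smul_mem' := fun r c ⟨u, hu, hc⟩ => ⟨u, hu, by
        rw [smul_eq_mul, mul_left_comm]; exact Ideal.mul_mem_left _ r hc⟩ }
  -- contraction of `gB`
  have hI : ∀ c : A, φ c ∈ Ideal.span {g} ↔ c ∈ Finset.univ.inf K := by
    intro c
    rw [Submodule.mem_finsetInf]
    constructor
    · intro hc q _
      haveI : q.1.IsPrime := IsAssociatedPrime.isPrime (hfin.mem_toFinset.mp q.2)
      by_contra hn
      obtain ⟨s, hs, hsg⟩ := (ha q q.1 inferInstance le_rfl).1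
      obtain ⟨d, hd⟩ := Ideal.mem_span_singleton'.mp hc
      have h1 : s * φ c ∈ Ideal.span {φ (a q)} := by
        rw [← hd, mul_left_comm]; exact Ideal.mul_mem_left _ d hsg
      have hle : ((Ideal.span {a q}).colon {c}).map φ ≤ q.1 := Ideal.map_le_iff_le_comap.mpr fun u hu => by
        by_contra hu'
        exact hn ⟨u, hu', by rwa [Submodule.mem_colon_singleton, smul_eq_mul] at hu⟩
      exact hs (hle (mem_map_colon h1))
    · intro hc
      refine hmem _ fun q hq => ?_
      haveI : q.IsPrime := IsAssociatedPrime.isPrime (hfin.mem_toFinset.mp hq)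
      obtain ⟨u, hu, huc⟩ := hc ⟨q, hq⟩ (Finset.mem_univ _)
      obtain ⟨t, ht, htg⟩ := (ha ⟨q, hq⟩ q inferInstance le_rfl).2
      refine ⟨t * φ u, fun h => ((‹q.IsPrime›).mem_or_mem h).elim ht hu, ?_⟩
      obtain ⟨r, hr⟩ := Ideal.mem_span_singleton'.mp huc
      rw [mul_assoc, ← map_mul, ← hr, map_mul, mul_left_comm]
      exact Ideal.mul_mem_left _ _ htg
  -- `g` lies in the extension of the contraction
  have hgI : g ∈ (Finset.univ.inf K).map φ := by
    refine mem_map_finset_inf _ _ fun q _ => ?_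
    haveI : q.1.IsPrime := IsAssociatedPrime.isPrime (hfin.mem_toFinset.mp q.2)
    set p := q.1.comap φ
    let C : Ideal B := (Ideal.span {φ (a q)}).colon {g}
    obtain ⟨u, hu, huC⟩ : ∃ u : A, u ∉ p ∧ φ u ∈ C := by
      by_contra hc
      push Not at hc
      let S : Submonoid B := p.primeCompl.map φ.toMonoidHom
      have hd : Disjoint (C : Set B) (S : Set B) := Set.disjoint_left.mpr fun x hxC hxS => by
        obtain ⟨u, hu, rfl⟩ := hxS
        exact hc u hu hxC
      obtain ⟨q', hq', hCq, hdq⟩ := Ideal.exists_le_prime_disjoint C S hd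
      obtain ⟨s, hs, hsg⟩ := (ha q q' hq' (fun u hu => by
        by_contra hup
        exact Set.disjoint_left.mp hdq hu ⟨u, hup, rfl⟩)).1
      exact hs (hCq (by rwa [Submodule.mem_colon_singleton, smul_eq_mul]))
    rw [Submodule.mem_colon_singleton, smul_eq_mul] at huC
    have hsat : ∀ c : A, u * c ∈ K q → c ∈ K q := fun c ⟨v, hv, hvc⟩ => ⟨v * u,
      fun h => ((Ideal.IsPrime.comap φ (K := q.1)).mem_or_mem h).elim hv hu, by rwa [mul_assoc]⟩
    have ha' : a q ∈ K q := ⟨1, fun h => (Ideal.IsPrime.comap φ (K := q.1)).ne_top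
      ((Ideal.eq_top_iff_one _).mpr h), by rw [one_mul]; exact Ideal.mem_span_singleton_self _⟩
    let f : A →ₗ[A] A ⧸ K q := (Submodule.mkQ (K q)).comp (LinearMap.mulRight A u)
    have hker : (LinearMap.ker f : Ideal A) = K q := by
      ext r
      show Submodule.Quotient.mk (r * u) = 0 ↔ _
      rw [Submodule.Quotient.mk_eq_zero]
      exact ⟨fun h => hsat r (by rwa [mul_comm]), fun h => Ideal.mul_mem_right _ _ h⟩
    rw [← hker]
    refine mem_map_ker_of_tmul_eq_zero f ?_
    have h1 : φ u * g ∈ (K q).map φ := by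
      obtain ⟨d, hd⟩ := Ideal.mem_span_singleton'.mp huC
      rw [← hd]
      exact Ideal.mul_mem_left _ _ (Ideal.mem_map_of_mem _ ha')
    have h2 := tmul_mk_one_eq_zero h1
    rw [← Algebra.smul_def, smul_tmul] at h2
    have hf : f 1 = u • (1 : A ⧸ K q) := by
      show Ideal.Quotient.mk _ (1 * u) = _
      rw [one_mul, Algebra.smul_def, mul_one]
      rfl
    rw [hf]
    exact h2
  -- some element of the contraction generates
  suffices h : ∃ c ∈ Finset.univ.inf K, Ideal.span {φ c} = Ideal.span {g} by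
    obtain ⟨c, -, hc⟩ := h
    refine ⟨c, ?_, hc⟩
    obtain ⟨d, hd⟩ := Ideal.mem_span_singleton'.mp (hc.ge (Ideal.mem_span_singleton_self g))
    have hnz : φ c ∈ nonZeroDivisors B := by
      rw [mem_nonZeroDivisors_iff_right] at hg ⊢
      exact fun z hz => hg z (by rw [← hd, mul_left_comm, hz, mul_zero])
    rw [mem_nonZeroDivisors_iff_right] at hnz ⊢
    exact fun z hz => FaithfulSMul.algebraMap_injective A B
      ((hnz (φ z) (by rw [← map_mul, hz, map_zero])).trans (map_zero φ).symm)
  by_contra hne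
  push Not at hne
  have key : ∀ w ∈ (Finset.univ.inf K).map φ, ∃ m ∈ maximalIdeal B, w = m * g := by
    intro w hw
    induction hw using Submodule.span_induction with
    | mem x hx =>
      obtain ⟨c, hc, rfl⟩ := hx
      obtain ⟨d, hd⟩ := Ideal.mem_span_singleton'.mp ((hI c).mpr hc)
      refine ⟨d, fun hdu => hne c hc ?_, hd.symm⟩
      rw [← hd, Ideal.span_singleton_mul_left_unit hdu]
    | zero => exact ⟨0, Ideal.zero_mem _, (zero_mul g).symm⟩
    | add x y _ _ h1 h2 =>
      obtain ⟨m, hm, rfl⟩ := h1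
      obtain ⟨n, hn, rfl⟩ := h2
      exact ⟨m + n, Ideal.add_mem _ hm hn, (add_mul _ _ _).symm⟩
    | smul r x _ h1 =>
      obtain ⟨m, hm, rfl⟩ := h1
      exact ⟨r * m, Ideal.mul_mem_left _ r hm, by rw [smul_eq_mul, mul_assoc]⟩
  obtain ⟨m, hm, hgm⟩ := key g hgI
  have h1 : (1 - m) * g = 0 := by linear_combination hgm
  have h2 := (mem_nonZeroDivisors_iff_right.mp hg) _ h1
  rw [sub_eq_zero] at h2
  exact (maximalIdeal.isMaximal B).ne_top ((Ideal.eq_top_iff_one _).mpr (h2 ▸ hm))

end Groth.Agent.Lib.CartierDescent
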