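import Groth.Agent.Lib.CartierDescent.Glue
import Groth.Agent.Lib.CDivInt.Normal
import Groth.Agent.Lib.CDivRatio.Basic
import Groth.Agent.H46.FiberStalk
import Mathlib.AlgebraicGeometry.Fiber

/-!
# Divisors trivial on the maximal fibres over a normal base
-/

set_option autoImplicit false
universe u
open CategoryTheory CategoryTheory.Limits AlgebraicGeometry TopologicalSpace IsLocalRing

namespace Groth.Agent.Lib.CartierDescent

open Groth.Agent.Lib.Ideal.Prime Groth.Agent.Lib.Ideal.EffCartier Groth.Agent.Lib.CDivInt.Factorial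
  Groth.Agent.Lib.AssPt.Basic
open Groth.Agent.Lib.ModelFibre.StalkIdeal (ext_of_stalkIdeal map_stalkSpecializes stalkIdeal_eq_top_iff)

theorem exists_pow_of_prime {R : Type u} [CommRing R] [IsNoetherianRing R] [IsLocalRing R] {t g : R}
    (ht : t ∈ nonZeroDivisors R) (hp : (Ideal.span {t}).IsPrime) (hg : g ∈ nonZeroDivisors R)
    (hQ : ∀ Q : Ideal R, Q.IsPrime → t ∉ Q → g ∉ Q) :
    ∃ n : ℕ, Ideal.span {g} = Ideal.span {t ^ n} := by
  classical
  have hex : ∃ m : ℕ, g ∉ Ideal.span {t} ^ m := by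
    by_contra hc
    push Not at hc
    have h0 : g ∈ ⨅ m, Ideal.span {t} ^ m := Submodule.mem_iInf _ |>.mpr hc
    rw [Ideal.iInf_pow_eq_bot_of_isLocalRing _ hp.ne_top, Ideal.mem_bot] at h0
    exact (nonZeroDivisors.ne_zero hg) h0
  obtain ⟨n, hn⟩ : ∃ n, Nat.find hex = n + 1 := Nat.exists_eq_succ_of_ne_zero fun h0 => by
    have := Nat.find_spec hex
    rw [h0, pow_zero, Ideal.one_eq_top] at this
    exact this trivial
  have hle : g ∈ Ideal.span {t} ^ n := not_not.mp (Nat.find_min hex (by omega))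
  have hnot : g ∉ Ideal.span {t} ^ (n + 1) := hn ▸ Nat.find_spec hex
  rw [Ideal.span_singleton_pow, Ideal.mem_span_singleton'] at hle
  obtain ⟨u, hu⟩ := hle
  have hut : u ∉ Ideal.span {t} := fun h => hnot (by
    obtain ⟨c, hc⟩ := Ideal.mem_span_singleton'.mp h
    rw [Ideal.span_singleton_pow, Ideal.mem_span_singleton', ← hu, ← hc, pow_succ']
    exact ⟨c, by rw [mul_assoc]⟩)
  refine ⟨n, ?_⟩
  rw [← hu]
  by_cases hunit : IsUnit u
  · exact Ideal.span_singleton_mul_left_unit hunit _
  exfalso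
  obtain ⟨Q, hQm, -⟩ := Ideal.exists_minimalPrimes_le
    (show Ideal.span {u} ≤ maximalIdeal R from (Ideal.span_singleton_le_iff_mem _).mpr hunit)
  haveI := hQm.1.1
  have huQ : u ∈ Q := hQm.1.2 (Ideal.mem_span_singleton_self u)
  refine hQ Q hQm.1.1 (fun htQ => ?_) (hu ▸ Q.mul_mem_right _ huQ)
  have hle' : Ideal.span {t} ≤ Q := (Ideal.span_singleton_le_iff_mem _).mpr htQ
  rcases hle'.eq_or_lt with he | hlt
  · exact hut (he ▸ huQ)
  · haveI := hp
    have h1 := Ideal.height_strict_mono_of_isPrime hlt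
    have h2 : Q.height ≤ 1 := Ideal.height_le_one_of_isPrincipal_of_mem_minimalPrimes _ Q hQm
    have h3 : (Ideal.span {t}).height = 0 := Order.lt_one_iff.mp (h1.trans_le h2)
    rw [Ideal.height_eq_zero_iff] at h3
    exact Ideal.disjoint_nonZeroDivisors_of_mem_minimalPrimes h3 |>.le_bot
      ⟨Ideal.mem_span_singleton_self t, ht⟩

theorem isField_of_depth_eq_zero {R : Type u} [CommRing R] [IsNoetherianRing R] [IsLocalRing R]
    [IsDomain R] (h : LocCoh.depth R R = 0) : IsField R := by
  obtain ⟨-, x, hx⟩ := isAssociatedPrime_iff.mp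
    ((Groth.Agent.Lib.Depth.Assoc.depth_eq_zero_iff (R := R) (M := R)).mp h)
  refine isField_iff_maximalIdeal_eq.mpr (eq_bot_iff.mpr fun r hr => ?_)
  rw [hx, Submodule.mem_colon_singleton, Submodule.mem_bot, smul_eq_mul, mul_eq_zero] at hr
  refine hr.resolve_right fun h0 => (maximalIdeal.isMaximal R).ne_top ?_
  rw [hx, h0]
  exact eq_top_iff.mpr fun r _ => by simp

variable {X Y : Scheme.{u}} [IsLocallyNoetherian Y]

theorem primeOf_refl (z : Y) : primeOf (specializes_rfl (x := z)) = maximalIdeal (Y.presheaf.stalk z) := by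
  rw [primeOf, TopCat.Presheaf.stalkSpecializes_refl]
  exact Ideal.comap_id _

theorem eq_of_primeOf_eq {w z : Y} (h : w ⤳ z)
    (he : primeOf h = maximalIdeal (Y.presheaf.stalk z)) : w = z :=
  (h.antisymm (specializes_of_primeOf_le h specializes_rfl (by rw [he, primeOf_refl]))).eq

theorem eq_of_isField {z : Y} (hF : IsField (Y.presheaf.stalk z)) {w : Y} (h : w ⤳ z) : w = z := by
  have hm := isField_iff_maximalIdeal_eq.mp hF
  refine eq_of_primeOf_eq h (le_antisymm (le_maximalIdeal (Ideal.IsPrime.ne_top inferInstance)) ?_)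
  rw [hm]
  exact bot_le

theorem maximal_of_ne {z : Y} (hdim : ∀ P : Ideal (Y.presheaf.stalk z), P.IsPrime → P ≠ ⊥ →
    P = maximalIdeal (Y.presheaf.stalk z)) {w : Y} (h : w ⤳ z) (hne : w ≠ z) :
    primeOf h = ⊥ ∧ ∀ v : Y, v ⤳ w → v = w := by
  have hw : primeOf h = ⊥ := by
    by_contra hc
    exact hne (eq_of_primeOf_eq h (hdim _ inferInstance hc))
  refine ⟨hw, fun v hv => ?_⟩
  have hle : primeOf (hv.trans h) ≤ primeOf h := fun r hr hu => hr (by
    rw [← stalkSpecializes_comp_apply hv h]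
    exact hu.map _)
  exact (hv.antisymm (specializes_of_primeOf_le (hv.trans h) h (by rw [hw]; exact bot_le))).eq

variable [IsLocallyNoetherian X]

/-- A uniformizer at a point with integral fibre generates a prime ideal upstairs. -/
theorem isPrime_span (f : X ⟶ Y) (x : X) {z : Y} (hxz : f x = z) [IsIntegral (f.fiber z)]
    {π : Y.presheaf.stalk z} (hπ : maximalIdeal (Y.presheaf.stalk z) = Ideal.span {π}) :
    (Ideal.span {f.stalkMap x (Y.presheaf.stalkSpecializes (specializes_of_eq hxz) π)}).IsPrime := by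
  subst hxz
  rw [TopCat.Presheaf.stalkSpecializes_refl]
  show (Ideal.span {f.stalkMap x π}).IsPrime
  obtain ⟨a, ha⟩ : x ∈ Set.range (f.fiberι (f x)) := by rw [f.range_fiberι]; rfl
  obtain ⟨φ, -, hk⟩ := Groth.Agent.H46.FiberStalk.exists_surjective_stalk f (f x) a x ha
  rw [hπ, span_eq_map_span] at hk
  haveI : IsDomain ((f.fiber (f x)).presheaf.stalk a) := inferInstance
  exact hk ▸ RingHom.ker_isPrime φ

theorem comesFrom_of_depth_le_one (f : X ⟶ Y) [Flat f] [Surjective f] (hY : Pi1.IsNormalScheme Y)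
    (hfib : ∀ y : ↥Y, ringKrullDim ↑(Y.presheaf.stalk y) = 1 → IsIntegral (f.fiber y))
    (J : X.IdealSheafData) (hJ : BlowUp.IsEffCartierIdeal J)
    (htop : ∀ η : ↥Y, (∀ z : ↥Y, z ⤳ η → z = η) → J.comap (f.fiberι η) = ⊤)
    (z : Y) (hz : LocCoh.depth (Y.presheaf.stalk z) (Y.presheaf.stalk z) ≤ 1) :
    ComesFrom f J z := by
  haveI := (hY z).1
  haveI := (hY z).2
  have hmax : ∀ x : X, (∀ v, v ⤳ f x → v = f x) → stalkIdeal J x = ⊤ := by
    intro x hx
    rw [stalkIdeal_eq_top_iff]
    intro hmem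
    obtain ⟨a, ha⟩ : x ∈ Set.range (f.fiberι (f x)) := by rw [f.range_fiberι]; rfl
    have h1 : a ∈ (J.comap (f.fiberι (f x))).support := by
      rw [Scheme.IdealSheafData.support_comap]
      show f.fiberι (f x) a ∈ J.support
      rw [ha]; exact hmem
    rw [htop (f x) hx, Scheme.IdealSheafData.support_top] at h1
    exact h1
  rcases eq_or_ne (LocCoh.depth (Y.presheaf.stalk z) (Y.presheaf.stalk z)) 0 with h0 | h0
  · have hF := isField_of_depth_eq_zero h0
    refine ⟨1, fun x h => ?_⟩
    rw [map_one, map_one, Ideal.span_singleton_one]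
    have hxz := eq_of_isField hF h
    refine hmax x fun v hv => ?_
    exact (eq_of_isField hF (hv.trans h)).trans hxz.symm
  have h1 : LocCoh.depth (Y.presheaf.stalk z) (Y.presheaf.stalk z) = 1 :=
    le_antisymm hz (Order.one_le_iff_ne_zero.mpr h0)
  haveI := CDivInt.isDiscreteValuationRing_of_depth_eq_one h1
  haveI := hfib z (IsDiscreteValuationRing.ringKrullDim_eq_one _)
  obtain ⟨π, hirr⟩ := IsDiscreteValuationRing.exists_irreducible (Y.presheaf.stalk z)
  have hπ := hirr.maximalIdeal_eq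
  have hdim : ∀ P : Ideal (Y.presheaf.stalk z), P.IsPrime → P ≠ ⊥ →
      P = maximalIdeal (Y.presheaf.stalk z) := fun P hP hne =>
    haveI := hP
    eq_maximalIdeal (hP.isMaximal_of_ne_bot hne)
  let t : ∀ (x : X), f x ⤳ z → X.presheaf.stalk x := fun x h =>
    f.stalkMap x (Y.presheaf.stalkSpecializes h π)
  have htn : ∀ x (h : f x = z), t x (specializes_of_eq h) ∈ nonZeroDivisors (X.presheaf.stalk x) := by
    intro x h
    subst h
    refine mem_nonZeroDivisors_of_flat (Flat.stalkMap f x) ?_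
    rw [TopCat.Presheaf.stalkSpecializes_refl]
    exact mem_nonZeroDivisors_of_ne_zero hirr.ne_zero
  have hstep : ∀ x (h : f x = z),
      ∃ n : ℕ, stalkIdeal J x = Ideal.span {t x (specializes_of_eq h) ^ n} := by
    intro x h
    obtain ⟨g, hg, hJg⟩ := stalkIdeal_eq_span hJ x
    obtain ⟨n, hn⟩ := exists_pow_of_prime (htn x h) (isPrime_span f x h hπ) hg fun Q hQ htQ hgQ => by
      obtain ⟨x', hx', rfl⟩ := exists_primeOf_eq x Q
      have h' : f x' ⤳ z := (hx'.map f.continuous).trans (specializes_of_eq h)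
      have hu : IsUnit (f.stalkMap x' (Y.presheaf.stalkSpecializes h' π)) := by
        rw [← stalkSpecializes_comp_apply (hx'.map f.continuous) (specializes_of_eq h),
          Scheme.Hom.stalkSpecializes_stalkMap_apply f x' x hx']
        exact not_not.mp htQ
      have hu' := isUnit_of_map_unit (f.stalkMap x').hom _ hu
      have hne : f x' ≠ z := fun he => by
        subst he
        rw [TopCat.Presheaf.stalkSpecializes_refl] at hu'
        exact hirr.not_isUnit hu'
      have h2 := hmax x' (maximal_of_ne hdim h' hne).2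
      rw [← map_stalkSpecializes J hx', hJg, span_eq_map_span, Ideal.span_singleton_eq_top] at h2
      exact hgQ h2
    exact ⟨n, hJg.trans hn⟩
  obtain ⟨x₀, hx₀⟩ := f.surjective z
  haveI : Nonempty (f.fiber z) := by
    obtain ⟨a, -⟩ : x₀ ∈ Set.range (f.fiberι z) := by rw [f.range_fiberι]; exact hx₀
    exact ⟨a⟩
  let ξ : X := f.fiberι z (genericPoint (f.fiber z))
  have hξ : f ξ = z := by
    have : ξ ∈ f ⁻¹' {z} := by rw [← f.range_fiberι z]; exact ⟨_, rfl⟩
    exact this
  obtain ⟨n, hn⟩ := hstep ξ hξ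
  refine ⟨π ^ n, fun x h => ?_⟩
  rw [map_pow, map_pow]
  by_cases he : f x = z
  · obtain ⟨m, hm⟩ := hstep x he
    obtain ⟨a, ha⟩ : x ∈ Set.range (f.fiberι z) := by rw [f.range_fiberι]; exact he
    have hsp : ξ ⤳ x := ha ▸ ((genericPoint_spec ↥(f.fiber z)).specializes
      (Set.mem_univ a)).map (f.fiberι z).continuous
    have h2 := map_stalkSpecializes J hsp
    rw [hm, span_eq_map_span, map_pow, hn] at h2
    have e : X.presheaf.stalkSpecializes hsp (t x (specializes_of_eq he)) =
        t ξ (specializes_of_eq hξ) := by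
      show X.presheaf.stalkSpecializes hsp (f.stalkMap x (Y.presheaf.stalkSpecializes _ π)) = _
      rw [← Scheme.Hom.stalkSpecializes_stalkMap_apply f ξ x hsp, stalkSpecializes_comp_apply]
    erw [e] at h2
    rw [← Ideal.span_singleton_pow, ← Ideal.span_singleton_pow] at h2
    have hmn : m = n := CDivRatio.pow_span_inj (htn ξ hξ) (fun hu => by
      have hu' : IsUnit (Y.presheaf.stalkSpecializes (specializes_of_eq hξ) π) :=
        isUnit_of_map_unit (f.stalkMap ξ).hom _ hu
      exact (primeOf_refl z ▸ (show π ∈ maximalIdeal _ from hirr.not_isUnit) :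
        π ∈ primeOf (specializes_rfl (x := z))) (by
          have h3 := hu'.map (Y.presheaf.stalkSpecializes (specializes_of_eq hξ.symm)).hom
          rw [stalkSpecializes_comp_apply] at h3
          exact h3)) h2
    rw [hm, hmn]
  · obtain ⟨hbot, hmx⟩ := maximal_of_ne hdim h he
    rw [hmax x hmx, eq_comm, Ideal.span_singleton_eq_top]
    refine (IsUnit.map _ ?_).pow n
    by_contra hu
    have : π ∈ primeOf h := hu
    rw [hbot, Ideal.mem_bot] at this
    exact hirr.ne_zero this

end Groth.Agent.Lib.CartierDescent
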