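import Groth.Agent.Lib.CartierDescent.Algebra
import Groth.Agent.Lib.CartierDescent.Stalk
import Mathlib.AlgebraicGeometry.Morphisms.UniversallyOpen

/-!
# Descent of effective Cartier divisors along faithfully flat morphisms
-/

set_option autoImplicit false
universe u
open CategoryTheory CategoryTheory.Limits AlgebraicGeometry TopologicalSpace

namespace Groth.Agent.Lib.CartierDescent

open Groth.Agent.Lib.Ideal.Prime Groth.Agent.Lib.Ideal.EffCartier Groth.Agent.Lib.CDivInt.Factorial
  Groth.Agent.Lib.AssPt.Basic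
open Groth.Agent.Lib.ModelFibre.StalkIdeal (ext_of_stalkIdeal map_stalkSpecializes)

variable {X Y : Scheme.{u}}

/-- Near the fibres over the generizations of `z`, the divisor comes from the local ring at `z`. -/
def ComesFrom (f : X ⟶ Y) (J : X.IdealSheafData) (z : Y) : Prop :=
  ∃ a : Y.presheaf.stalk z, ∀ (x : X) (h : f x ⤳ z),
    stalkIdeal J x = Ideal.span {f.stalkMap x (Y.presheaf.stalkSpecializes h a)}

theorem span_eq_map_span {R S : Type*} [CommRing R] [CommRing S] (φ : R →+* S) (a : R) :
    (Ideal.span {a}).map φ = Ideal.span {φ a} := by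
  rw [Ideal.map_span, Set.image_singleton]

theorem span_eq_of_stalkMap (f : X ⟶ Y) [Flat f] (x : X) {a b : Y.presheaf.stalk (f x)}
    (h : Ideal.span {f.stalkMap x a} = Ideal.span {f.stalkMap x b}) :
    Ideal.span {a} = Ideal.span {b} := by
  letI := (f.stalkMap x).hom.toAlgebra
  haveI : Module.Flat (Y.presheaf.stalk (f x)) (X.presheaf.stalk x) := Flat.stalkMap f x
  haveI : IsLocalHom (algebraMap (Y.presheaf.stalk (f x)) (X.presheaf.stalk x)) :=
    (inferInstance : IsLocalHom (f.stalkMap x).hom)
  haveI : Module.FaithfullyFlat (Y.presheaf.stalk (f x)) (X.presheaf.stalk x) :=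
    Module.FaithfullyFlat.of_flat_of_isLocalHom
  rw [← Ideal.comap_map_eq_self_of_faithfullyFlat (B := X.presheaf.stalk x) (Ideal.span {a}),
    ← Ideal.comap_map_eq_self_of_faithfullyFlat (B := X.presheaf.stalk x) (Ideal.span {b}),
    span_eq_map_span, span_eq_map_span]
  exact congrArg _ h

/-- Membership in a principal ideal is detected at the primes of depth at most one. -/
theorem mem_span_of_depth_le_one {R : Type u} [CommRing R] [IsNoetherianRing R] [IsLocalRing R]
    {b c : R} (hb : b ∈ nonZeroDivisors R)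
    (H : ∀ (p : Ideal R) [p.IsPrime],
      LocCoh.depth (Localization.AtPrime p) (Localization.AtPrime p) ≤ 1 →
      ∃ s ∉ p, s * c ∈ Ideal.span {b}) : c ∈ Ideal.span {b} := by
  by_contra hc
  obtain ⟨q, hq, hle⟩ := exists_le_isAssociatedPrime_of_isNoetherianRing R
    (Ideal.Quotient.mk (Ideal.span {b}) c) (fun h => hc (Ideal.Quotient.eq_zero_iff_mem.mp h))
  haveI : q.IsPrime := IsAssociatedPrime.isPrime hq
  obtain ⟨s, hs, hsc⟩ := H _ (depth_comap_le_one (A := R) (B := R) hb hq)
  refine hs (hle ?_)
  rw [Submodule.mem_colon_singleton, Submodule.mem_bot, Algebra.smul_def,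
    Ideal.Quotient.algebraMap_eq, ← map_mul, Ideal.Quotient.eq_zero_iff_mem]
  exact hsc

variable [IsLocallyNoetherian X] [IsLocallyNoetherian Y] (f : X ⟶ Y) [Flat f] (J : X.IdealSheafData)

/-- Descent of the germ of the divisor at a single point. -/
theorem exists_germ (hJ : BlowUp.IsEffCartierIdeal J)
    (H : ∀ z : Y, LocCoh.depth (Y.presheaf.stalk z) (Y.presheaf.stalk z) ≤ 1 → ComesFrom f J z)
    (x : X) : ∃ a ∈ nonZeroDivisors (Y.presheaf.stalk (f x)),
      stalkIdeal J x = Ideal.span {f.stalkMap x a} := by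
  obtain ⟨g, hg, hJg⟩ := stalkIdeal_eq_span hJ x
  letI := (f.stalkMap x).hom.toAlgebra
  haveI : Module.Flat (Y.presheaf.stalk (f x)) (X.presheaf.stalk x) := Flat.stalkMap f x
  haveI : IsLocalHom (algebraMap (Y.presheaf.stalk (f x)) (X.presheaf.stalk x)) :=
    (inferInstance : IsLocalHom (f.stalkMap x).hom)
  obtain ⟨a, ha, hag⟩ := exists_generator (A := Y.presheaf.stalk (f x)) hg fun p hp hd => by
    obtain ⟨z, hz, rfl⟩ := exists_primeOf_eq (f x) p
    rw [depth_primeOf hz] at hd
    obtain ⟨az, haz⟩ := H z hd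
    letI : Algebra (Y.presheaf.stalk (f x)) (Y.presheaf.stalk z) :=
      (Y.presheaf.stalkSpecializes hz).hom.toAlgebra
    haveI := isLocalization_stalkSpecializes hz
    obtain ⟨⟨a, u⟩, hau⟩ := IsLocalization.surj (primeOf hz).primeCompl az
    have hspan : Ideal.span {Y.presheaf.stalkSpecializes hz a} = Ideal.span {az} := by
      show Ideal.span {algebraMap (Y.presheaf.stalk (f x)) (Y.presheaf.stalk z) a} = _
      rw [← hau]
      exact Ideal.span_singleton_mul_right_unit (IsLocalization.map_units _ u) az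
    refine ⟨a, fun q hq hqp => ?_⟩
    haveI := hq
    obtain ⟨x', hx', rfl⟩ := exists_primeOf_eq x q
    have hq' : primeOf (hx'.map f.continuous) ≤ primeOf hz := comap_primeOf f hx' ▸ hqp
    have hfz : f x' ⤳ z := specializes_of_primeOf_le hz (hx'.map f.continuous) hq'
    letI : Algebra (X.presheaf.stalk x) (X.presheaf.stalk x') :=
      (X.presheaf.stalkSpecializes hx').hom.toAlgebra
    haveI := isLocalization_stalkSpecializes hx'
    have key : Ideal.span {algebraMap _ (X.presheaf.stalk x') g} =
        Ideal.span {algebraMap _ (X.presheaf.stalk x') (f.stalkMap x a)} := by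
      have h1 : (stalkIdeal J x).map (algebraMap _ (X.presheaf.stalk x')) = stalkIdeal J x' :=
        map_stalkSpecializes J hx'
      rw [hJg, span_eq_map_span, haz x' hfz] at h1
      rw [h1]
      have h2 := congrArg (Ideal.map (Y.presheaf.stalkSpecializes hfz ≫ f.stalkMap x').hom) hspan
      rw [span_eq_map_span, span_eq_map_span] at h2
      refine h2.symm.trans (congrArg (fun t => Ideal.span {t}) ?_)
      show f.stalkMap x' (Y.presheaf.stalkSpecializes hfz (Y.presheaf.stalkSpecializes hz a)) =
        X.presheaf.stalkSpecializes hx' (f.stalkMap x a)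
      rw [stalkSpecializes_comp_apply]
      exact Scheme.Hom.stalkSpecializes_stalkMap_apply f x' x hx' a
    have hmem : ∀ {b c : X.presheaf.stalk x},
        Ideal.span {algebraMap _ (X.presheaf.stalk x') b} =
          Ideal.span {algebraMap _ (X.presheaf.stalk x') c} →
        ∃ s ∉ primeOf hx', s * b ∈ Ideal.span {c} := fun {b c} he => by
      obtain ⟨m, hm, hmb⟩ := (IsLocalization.algebraMap_mem_map_algebraMap_iff
        (primeOf hx').primeCompl (X.presheaf.stalk x') (Ideal.span {c}) b).mp
          (by rw [span_eq_map_span, ← he]; exact Ideal.mem_span_singleton_self _)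
      exact ⟨m, hm, hmb⟩
    exact ⟨hmem key, hmem key.symm⟩
  exact ⟨a, ha, hJg.trans hag.symm⟩

theorem span_spec_eq {x : X} {a : Y.presheaf.stalk (f x)}
    (ha : stalkIdeal J x = Ideal.span {f.stalkMap x a}) {z : Y} (hz : z ⤳ f x)
    {az : Y.presheaf.stalk z}
    (haz : ∀ (x' : X) (h : f x' ⤳ z),
      stalkIdeal J x' = Ideal.span {f.stalkMap x' (Y.presheaf.stalkSpecializes h az)}) :
    Ideal.span {Y.presheaf.stalkSpecializes hz a} = Ideal.span {az} := by
  obtain ⟨x', hx', rfl⟩ := Flat.generalizingMap f hz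
  refine span_eq_of_stalkMap f x' ?_
  have h1 := map_stalkSpecializes J hx'
  rw [ha, span_eq_map_span, haz x' specializes_rfl, TopCat.Presheaf.stalkSpecializes_refl] at h1
  rw [Scheme.Hom.stalkSpecializes_stalkMap_apply f x' x hx' a]
  exact h1

/-- Uniqueness of the descended germ along all the fibres over generizations. -/
theorem exists_germ_all [Surjective f] (hJ : BlowUp.IsEffCartierIdeal J)
    (H : ∀ z : Y, LocCoh.depth (Y.presheaf.stalk z) (Y.presheaf.stalk z) ≤ 1 → ComesFrom f J z)
    (y : Y) : ∃ a ∈ nonZeroDivisors (Y.presheaf.stalk y), ∀ (x : X) (h : f x ⤳ y),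
      stalkIdeal J x = Ideal.span {f.stalkMap x (Y.presheaf.stalkSpecializes h a)} := by
  obtain ⟨x₀, rfl⟩ := f.surjective y
  obtain ⟨a, ha, hJa⟩ := exists_germ f J hJ H x₀
  refine ⟨a, ha, fun x h => ?_⟩
  obtain ⟨c, hc, hJc⟩ := exists_germ f J hJ H x
  set b := Y.presheaf.stalkSpecializes h a with hbdef
  have hb : b ∈ nonZeroDivisors (Y.presheaf.stalk (f x)) := by
    letI : Algebra (Y.presheaf.stalk (f x₀)) (Y.presheaf.stalk (f x)) :=
      (Y.presheaf.stalkSpecializes h).hom.toAlgebra
    haveI := isLocalization_stalkSpecializes h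
    exact IsLocalization.map_nonZeroDivisors_le (primeOf h).primeCompl _ ⟨a, ha, rfl⟩
  have key : ∀ (p : Ideal (Y.presheaf.stalk (f x))) [p.IsPrime],
      LocCoh.depth (Localization.AtPrime p) (Localization.AtPrime p) ≤ 1 →
      (∃ s ∉ p, s * c ∈ Ideal.span {b}) ∧ (∃ s ∉ p, s * b ∈ Ideal.span {c}) := by
    intro p _ hd
    obtain ⟨z, hz, rfl⟩ := exists_primeOf_eq (f x) p
    rw [depth_primeOf hz] at hd
    obtain ⟨az, haz⟩ := H z hd
    have e1 := span_spec_eq f J hJc hz haz
    have e2 : Ideal.span {Y.presheaf.stalkSpecializes hz b} = Ideal.span {az} := by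
      rw [hbdef, stalkSpecializes_comp_apply]
      exact span_spec_eq f J hJa (hz.trans h) haz
    letI : Algebra (Y.presheaf.stalk (f x)) (Y.presheaf.stalk z) :=
      (Y.presheaf.stalkSpecializes hz).hom.toAlgebra
    haveI := isLocalization_stalkSpecializes hz
    have hmem : ∀ {r t : Y.presheaf.stalk (f x)},
        Ideal.span {algebraMap _ (Y.presheaf.stalk z) r} =
          Ideal.span {algebraMap _ (Y.presheaf.stalk z) t} →
        ∃ s ∉ primeOf hz, s * r ∈ Ideal.span {t} := fun {r t} he => by
      obtain ⟨m, hm, hmb⟩ := (IsLocalization.algebraMap_mem_map_algebraMap_iff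
        (primeOf hz).primeCompl (Y.presheaf.stalk z) (Ideal.span {t}) r).mp
          (by rw [span_eq_map_span, ← he]; exact Ideal.mem_span_singleton_self _)
      exact ⟨m, hm, hmb⟩
    exact ⟨hmem (e1.trans e2.symm), hmem (e2.trans e1.symm)⟩
  have heq : Ideal.span {b} = Ideal.span {c} := le_antisymm
    ((Ideal.span_singleton_le_iff_mem _).mpr
      (mem_span_of_depth_le_one hc fun p _ hd => (key p hd).2))
    ((Ideal.span_singleton_le_iff_mem _).mpr
      (mem_span_of_depth_le_one hb fun p _ hd => (key p hd).1))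
  rw [hJc]
  have := congrArg (Ideal.map (f.stalkMap x).hom) heq
  rw [span_eq_map_span, span_eq_map_span] at this
  exact this.symm

end Groth.Agent.Lib.CartierDescent
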