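import Groth.Agent.Lib.CartierDescent.Descent

/-!
# Gluing a locally principal ideal sheaf from its stalks
-/

set_option autoImplicit false
universe u
open CategoryTheory CategoryTheory.Limits AlgebraicGeometry TopologicalSpace

namespace Groth.Agent.Lib.CartierDescent

open Groth.Agent.Lib.Ideal.Prime Groth.Agent.Lib.Ideal.EffCartier Groth.Agent.Lib.CDivInt.Factorial
  Groth.Agent.Lib.AssPt.Basic
open Groth.Agent.Lib.ModelFibre.StalkIdeal (ext_of_stalkIdeal map_stalkSpecializes)

theorem exists_notMem_mul_le {R S : Type u} [CommRing R] [IsNoetherianRing R] [CommRing S]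
    [Algebra R S] (M : Submonoid R) [IsLocalization M S] {I K : Ideal R}
    (h : I.map (algebraMap R S) ≤ K.map (algebraMap R S)) : ∃ r ∈ M, ∀ i ∈ I, r * i ∈ K := by
  classical
  obtain ⟨T, hT⟩ := IsNoetherian.noetherian I
  have hden : ∀ b ∈ T, ∃ t ∈ M, t * b ∈ K := fun b hb =>
    (IsLocalization.algebraMap_mem_map_algebraMap_iff M S K b).mp
      (h (Ideal.mem_map_of_mem _ (hT ▸ Submodule.subset_span hb)))
  choose t htM ht using hden
  refine ⟨∏ b ∈ T.attach, t b.1 b.2, prod_mem fun b _ => htM _ _, fun i hi => ?_⟩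
  rw [← hT] at hi
  refine Submodule.span_induction (fun b hb => ?_) ?_ (fun x y _ _ hx hy => ?_) (fun c x _ hx => ?_) hi
  · obtain ⟨d, hd⟩ := Finset.dvd_prod_of_mem (fun b : {b // b ∈ T} => t b.1 b.2)
      (Finset.mem_attach _ ⟨b, hb⟩)
    rw [hd, mul_comm (t b hb), mul_assoc]
    exact Ideal.mul_mem_left _ _ (ht b hb)
  · rw [mul_zero]; exact K.zero_mem
  · rw [mul_add]; exact K.add_mem hx hy
  · rw [smul_eq_mul, mul_left_comm]; exact K.mul_mem_left _ hx

variable {X : Scheme.{u}}

/-- The ideal sheaf with prescribed stalks, locally generated by one section. -/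
theorem exists_of_stalks (K : ∀ z : X, Ideal (X.presheaf.stalk z))
    (hnzd : ∀ z : X, ∃ a ∈ nonZeroDivisors (X.presheaf.stalk z), K z = Ideal.span {a})
    (hK : ∀ z : X, ∃ (V : X.affineOpens) (_ : z ∈ V.1) (s : Γ(X, V.1)),
      ∀ w (hw : w ∈ V.1), K w = Ideal.span {X.presheaf.germ V.1 w hw s}) :
    ∃ I : X.IdealSheafData, BlowUp.IsEffCartierIdeal I ∧ ∀ z, stalkIdeal I z = K z := by
  classical
  let ideal : ∀ U : X.affineOpens, Ideal Γ(X, U.1) := fun U =>
    ⨅ z : U.1, (K z.1).comap (X.presheaf.germ U.1 z.1 z.2).hom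
  have hmem : ∀ {U : X.affineOpens} {r : Γ(X, U.1)},
      r ∈ ideal U ↔ ∀ z (hz : z ∈ U.1), X.presheaf.germ U.1 z hz r ∈ K z := fun {U r} => by
    simp [ideal, Submodule.mem_iInf]
  let I : X.IdealSheafData :=
  { ideal := ideal
    map_ideal_basicOpen := fun U a => by
      let res : Γ(X, U.1) ⟶ Γ(X, (X.affineBasicOpen a).1) :=
        X.presheaf.map (homOfLE (X.basicOpen_le a)).op
      show Ideal.map res.hom (ideal U) = ideal (X.affineBasicOpen a)
      apply le_antisymm
      · rw [Ideal.map_le_iff_le_comap]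
        intro r hr
        refine Ideal.mem_comap.mpr (hmem.mpr fun z hz => ?_)
        have e : X.presheaf.germ (X.affineBasicOpen a).1 z hz (res r) =
            X.presheaf.germ U.1 z (X.basicOpen_le a hz) r :=
          X.presheaf.germ_res_apply _ z hz r
        exact e.symm ▸ hmem.mp hr z _
      · intro t ht
        letI := res.hom.toAlgebra
        haveI : IsLocalization.Away a Γ(X, (X.affineBasicOpen a).1) := U.2.isLocalization_basicOpen a
        obtain ⟨⟨r, ⟨_, k, rfl⟩⟩, hrk⟩ := IsLocalization.surj (Submonoid.powers a) t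
        simp only at hrk
        have hcov : ∀ y : U.1, ∃ (W : X.affineOpens) (_ : W.1 ≤ U.1), y.1 ∈ W.1 ∧
            ∃ n : ℕ, ∀ z (hz : z ∈ U.1), z ∈ W.1 → X.presheaf.germ U.1 z hz (a ^ n * r) ∈ K z := by
          intro y
          obtain ⟨V, hyV, s, hs⟩ := hK y.1
          obtain ⟨W, hW, hyW, hle⟩ := exists_isAffineOpen_mem_and_subset
            (show y.1 ∈ V.1 ⊓ U.1 from ⟨hyV, y.2⟩)
          have hWV : W ≤ V.1 := fun z hz => (hle hz).1
          have hWU : W ≤ U.1 := fun z hz => (hle hz).2
          refine ⟨⟨W, hW⟩, hWU, hyW, ?_⟩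
          let a' := X.presheaf.map (homOfLE hWU).op a
          let s' := X.presheaf.map (homOfLE hWV).op s
          let r' := X.presheaf.map (homOfLE hWU).op r
          letI := (X.presheaf.map (homOfLE (X.basicOpen_le a')).op).hom.toAlgebra
          haveI : IsLocalization.Away a' Γ(X, X.basicOpen a') := hW.isLocalization_basicOpen a'
          have hle' : ∀ z ∈ X.basicOpen a', z ∈ X.basicOpen a := fun z hz => by
            rw [X.basicOpen_res a (homOfLE hWU).op] at hz
            exact hz.2
          have hDmem : algebraMap Γ(X, W) Γ(X, X.basicOpen a') r' ∈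
              (Ideal.span {s'}).map (algebraMap Γ(X, W) Γ(X, X.basicOpen a')) := by
            rw [span_eq_map_span]
            refine Ideal.mem_of_localization_maximal fun P hP => ?_
            obtain ⟨z, hz, hzP⟩ := exists_point_of_prime (hW.basicOpen a') P
            letI := X.presheaf.algebra_section_stalk ⟨z, hz⟩
            haveI := (hW.basicOpen a').isLocalization_stalk ⟨z, hz⟩
            haveI : IsLocalization.AtPrime (X.presheaf.stalk z) P := by
              show IsLocalization P.primeCompl _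
              have hc : P.primeCompl =
                  ((hW.basicOpen a').primeIdealOf ⟨z, hz⟩).asIdeal.primeCompl := by
                ext b
                show b ∉ P ↔ b ∉ ((hW.basicOpen a').primeIdealOf ⟨z, hz⟩).asIdeal
                rw [hzP]
              rw [hc]
              exact (hW.basicOpen a').isLocalization_stalk ⟨z, hz⟩
            have hzU : z ∈ U.1 := hWU (X.basicOpen_le a' hz)
            have hg : algebraMap Γ(X, X.basicOpen a') (X.presheaf.stalk z)
                (algebraMap Γ(X, W) Γ(X, X.basicOpen a') r') ∈ (Ideal.span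
                {algebraMap Γ(X, W) Γ(X, X.basicOpen a') s'}).map
                (algebraMap Γ(X, X.basicOpen a') (X.presheaf.stalk z)) := by
              rw [span_eq_map_span]
              show X.presheaf.germ _ z hz (X.presheaf.map _ (X.presheaf.map _ r)) ∈
                Ideal.span {X.presheaf.germ _ z hz (X.presheaf.map _ (X.presheaf.map _ s))}
              rw [TopCat.Presheaf.germ_res_apply, TopCat.Presheaf.germ_res_apply,
                TopCat.Presheaf.germ_res_apply, TopCat.Presheaf.germ_res_apply, ← hs z]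
              have h1 := hmem.mp ht z (hle' z hz)
              have h2 := congrArg (X.presheaf.germ (X.affineBasicOpen a).1 z (hle' z hz)).hom hrk
              rw [map_mul (X.presheaf.germ (X.affineBasicOpen a).1 z (hle' z hz)).hom] at h2
              rw [← TopCat.Presheaf.germ_res_apply X.presheaf (homOfLE (X.basicOpen_le a)) z
                (hle' z hz) r]
              show X.presheaf.germ _ z (hle' z hz) (res r) ∈ _
              exact h2 ▸ Ideal.mul_mem_right _ _ h1
            obtain ⟨m, hm, hmr⟩ := (IsLocalization.algebraMap_mem_map_algebraMap_iff P.primeCompl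
              (X.presheaf.stalk z) _ _).mp hg
            exact (IsLocalization.algebraMap_mem_map_algebraMap_iff P.primeCompl
              (Localization.AtPrime P) _ _).mpr ⟨m, hm, hmr⟩
          obtain ⟨_, ⟨n, rfl⟩, hn⟩ := (IsLocalization.algebraMap_mem_map_algebraMap_iff
            (Submonoid.powers a') Γ(X, X.basicOpen a') _ _).mp hDmem
          refine ⟨n, fun z hz hzW => ?_⟩
          rw [hs z (hWV hzW), map_mul, map_pow]
          have h1 := Ideal.mem_map_of_mem (X.presheaf.germ W z hzW).hom hn
          rw [span_eq_map_span, map_mul, map_pow] at h1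
          simp only [a', r', s', TopCat.Presheaf.germ_res_apply] at h1
          exact h1
        choose W hWU hyW n hn using hcov
        obtain ⟨T, hT⟩ := U.2.isCompact.elim_finite_subcover (fun y => ((W y).1 : Set X))
          (fun y => (W y).1.2) (fun y hy => Set.mem_iUnion.mpr ⟨⟨y, hy⟩, hyW _⟩)
        have hr' : a ^ (∑ y ∈ T, n y) * r ∈ ideal U := by
          refine hmem.mpr fun z hz => ?_
          obtain ⟨v, hv, hzv⟩ := Set.mem_iUnion₂.mp (hT hz)
          rw [← Finset.add_sum_erase T n hv, pow_add, mul_comm (a ^ n v), mul_assoc, map_mul]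
          exact Ideal.mul_mem_left _ _ (hn v z hz hzv)
        have h2 := Ideal.mem_map_of_mem res.hom hr'
        rw [map_mul] at h2
        have h3 := (Ideal.unit_mul_mem_iff_mem _ (IsLocalization.map_units _
          (⟨a ^ (∑ y ∈ T, n y), _, rfl⟩ : Submonoid.powers a))).mp h2
        refine (Ideal.mul_unit_mem_iff_mem _ (IsLocalization.map_units _
          (⟨a ^ k, k, rfl⟩ : Submonoid.powers a))).mp ?_
        exact hrk.symm ▸ h3 }
  have hloc : ∀ z : X, ∃ (W : X.affineOpens) (_ : z ∈ W.1) (s : Γ(X, W.1)),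
      s ∈ nonZeroDivisors Γ(X, W.1) ∧ ideal W = Ideal.span {s} ∧
      ∀ w (hw : w ∈ W.1), K w = Ideal.span {X.presheaf.germ W.1 w hw s} := by
    intro z
    obtain ⟨V, hzV, s, hs⟩ := hK z
    refine ⟨V, hzV, s, mem_nonZeroDivisors_of_germ fun w hw => ?_, ?_, hs⟩
    · obtain ⟨b, hb, hKb⟩ := hnzd w
      obtain ⟨c, hc⟩ := Ideal.mem_span_singleton'.mp
        (((hs w hw).symm.trans hKb).ge (Ideal.mem_span_singleton_self b))
      rw [← hc] at hb
      exact (mul_mem_nonZeroDivisors.mp hb).2
    · refine le_antisymm (fun r hr => Ideal.mem_of_localization_maximal fun P hP => ?_)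
        ((Ideal.span_singleton_le_iff_mem _).mpr (hmem.mpr fun w hw =>
          (hs w hw).ge (Ideal.mem_span_singleton_self _)))
      obtain ⟨w, hw, hwP⟩ := exists_point_of_prime V.2 P
      letI := X.presheaf.algebra_section_stalk ⟨w, hw⟩
      haveI : IsLocalization.AtPrime (X.presheaf.stalk w) P := by
        show IsLocalization P.primeCompl _
        have hc : P.primeCompl = (V.2.primeIdealOf ⟨w, hw⟩).asIdeal.primeCompl := by
          ext b
          show b ∉ P ↔ b ∉ (V.2.primeIdealOf ⟨w, hw⟩).asIdeal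
          rw [hwP]
        rw [hc]
        exact V.2.isLocalization_stalk ⟨w, hw⟩
      have hg : algebraMap Γ(X, V.1) (X.presheaf.stalk w) r ∈
          (Ideal.span {s}).map (algebraMap Γ(X, V.1) (X.presheaf.stalk w)) := by
        rw [span_eq_map_span]
        exact (hs w hw).le (hmem.mp hr w hw)
      obtain ⟨m, hm, hmr⟩ := (IsLocalization.algebraMap_mem_map_algebraMap_iff P.primeCompl
        (X.presheaf.stalk w) _ _).mp hg
      exact (IsLocalization.algebraMap_mem_map_algebraMap_iff P.primeCompl
        (Localization.AtPrime P) _ _).mpr ⟨m, hm, hmr⟩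
  refine ⟨I, fun z => ?_, fun z => ?_⟩
  · obtain ⟨W, hzW, s, hsn, hsi, -⟩ := hloc z
    exact ⟨W, hzW, s, hsn, hsi⟩
  · obtain ⟨W, hzW, s, -, hsi, hs⟩ := hloc z
    rw [stalkIdeal_eq I W hzW, hs z hzW]
    show (ideal W).map _ = _
    rw [hsi, span_eq_map_span]

variable {Y : Scheme.{u}} [IsLocallyNoetherian X] [IsLocallyNoetherian Y]

/-- Descent of an effective Cartier divisor that descends at the points of depth at most one. -/
theorem exists_descent (f : X ⟶ Y) [Flat f] [Surjective f] (hf : QuasiCompact f ∨ IsOpenMap f)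
    (J : X.IdealSheafData) (hJ : BlowUp.IsEffCartierIdeal J)
    (H : ∀ z : Y, LocCoh.depth (Y.presheaf.stalk z) (Y.presheaf.stalk z) ≤ 1 → ComesFrom f J z) :
    ∃ I : Y.IdealSheafData, BlowUp.IsEffCartierIdeal I ∧ I.comap f = J := by
  choose a han ha using exists_germ_all f J hJ H
  have hx : ∀ x : X, stalkIdeal J x = Ideal.span {f.stalkMap x (a (f x))} := fun x => by
    have := ha (f x) x specializes_rfl
    rwa [TopCat.Presheaf.stalkSpecializes_refl] at this
  obtain ⟨I, hI, hIK⟩ := exists_of_stalks (fun z => Ideal.span {a z})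
    (fun z => ⟨a z, han z, rfl⟩) (fun y => by
    obtain ⟨U, hU, hyU, -⟩ := exists_isAffineOpen_mem_and_subset
      (show y ∈ (⊤ : Y.Opens) from trivial)
    letI := Y.presheaf.algebra_section_stalk ⟨y, hyU⟩
    haveI := hU.isLocalization_stalk ⟨y, hyU⟩
    obtain ⟨⟨s, u⟩, hsu⟩ := IsLocalization.surj (hU.primeIdealOf ⟨y, hyU⟩).asIdeal.primeCompl (a y)
    let T : Set Y := {z | ∃ hz : z ∈ U, Ideal.span {a z} = Ideal.span {Y.presheaf.germ U z hz s}}
    have hyT : y ∈ T := ⟨hyU, by
      show _ = Ideal.span {algebraMap Γ(Y, U) (Y.presheaf.stalk y) s}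
      rw [← hsu]
      exact (Ideal.span_singleton_mul_right_unit (IsLocalization.map_units _ u) (a y)).symm⟩
    have hG : IsOpen (f ⁻¹' T) := by
      refine isOpen_iff_forall_mem_open.mpr fun x hxT => ?_
      obtain ⟨hz, hTx⟩ := hxT
      obtain ⟨W, hW, hxW, hle'⟩ := exists_isAffineOpen_mem_and_subset
        (show x ∈ f ⁻¹ᵁ U from hz)
      have hle : W ≤ f ⁻¹ᵁ U := fun w hw => hle' hw
      set t := f.appLE U W hle s with ht
      have htg : ∀ w (hw : w ∈ W), X.presheaf.germ W w hw t =
          f.stalkMap w (Y.presheaf.germ U (f w) (hle hw) s) := fun w hw => by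
        rw [Scheme.Hom.germ_stalkMap_apply f U w (hle hw) s, ht]
        exact X.presheaf.germ_res_apply _ _ _ _
      letI := X.presheaf.algebra_section_stalk ⟨x, hxW⟩
      haveI := hW.isLocalization_stalk ⟨x, hxW⟩
      haveI : IsNoetherianRing Γ(X, W) := IsLocallyNoetherian.component_noetherian ⟨W, hW⟩
      have e : (J.ideal ⟨W, hW⟩).map (algebraMap Γ(X, W) (X.presheaf.stalk x)) =
          (Ideal.span {t}).map (algebraMap Γ(X, W) (X.presheaf.stalk x)) := by
        rw [span_eq_map_span]
        refine ((stalkIdeal_eq J ⟨W, hW⟩ hxW).symm.trans (hx x)).trans ?_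
        show _ = Ideal.span {X.presheaf.germ W x hxW t}
        rw [htg x hxW]
        have := congrArg (Ideal.map (f.stalkMap x).hom) hTx
        rwa [span_eq_map_span, span_eq_map_span] at this
      obtain ⟨r₁, hr₁, h₁⟩ := exists_notMem_mul_le
        (hW.primeIdealOf ⟨x, hxW⟩).asIdeal.primeCompl e.le
      obtain ⟨r₂, hr₂, h₂⟩ := exists_notMem_mul_le
        (hW.primeIdealOf ⟨x, hxW⟩).asIdeal.primeCompl e.ge
      refine ⟨X.basicOpen (r₁ * r₂), fun w hw => ?_, (X.basicOpen _).2,
        (mem_basicOpen_iff_notMem_prime hW hxW _).mpr (mul_mem hr₁ hr₂)⟩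
      have hwW : w ∈ W := X.basicOpen_le _ hw
      have hu := (X.mem_basicOpen _ w hwW).mp hw
      rw [map_mul, IsUnit.mul_iff] at hu
      refine ⟨hle hwW, span_eq_of_stalkMap f w ?_⟩
      rw [← hx w, ← htg w hwW, stalkIdeal_eq J ⟨W, hW⟩ hwW]
      refine le_antisymm (Ideal.map_le_iff_le_comap.mpr fun i hi => ?_)
        ((Ideal.span_singleton_le_iff_mem _).mpr ?_)
      · have := Ideal.mem_map_of_mem (X.presheaf.germ W w hwW).hom (h₁ i hi)
        rw [span_eq_map_span, map_mul] at this
        exact (Ideal.unit_mul_mem_iff_mem _ hu.1).mp this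
      · have := Ideal.mem_map_of_mem (X.presheaf.germ W w hwW).hom
          (h₂ t (Ideal.mem_span_singleton_self t))
        rw [map_mul] at this
        exact (Ideal.unit_mul_mem_iff_mem _ hu.2).mp this
    have hT : IsOpen T := by
      rcases hf with hq | ho
      · exact (Flat.isQuotientMap_of_surjective f).isOpen_preimage.mp hG
      · rw [← Set.image_preimage_eq T f.surjective]
        exact ho _ hG
    obtain ⟨V, hV, hyV, hVle⟩ := exists_isAffineOpen_mem_and_subset
      (show y ∈ (⟨T, hT⟩ : Y.Opens) from hyT)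
    have hVU : V ≤ U := fun w hw => (hVle hw).1
    refine ⟨⟨V, hV⟩, hyV, Y.presheaf.map (homOfLE hVU).op s, fun w hw => ?_⟩
    obtain ⟨hwU, he⟩ := hVle hw
    rw [TopCat.Presheaf.germ_res_apply]
    exact he)
  refine ⟨I, hI, ext_of_stalkIdeal fun x => ?_⟩
  rw [stalkIdeal_comap, hIK, span_eq_map_span, hx x]

end Groth.Agent.Lib.CartierDescent
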